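import Mathlib

/-!
# A flat finite type algebra whose fibres over (enough) minimal primes are epimorphic is
formally unramified (helper2)
-/

set_option autoImplicit false
set_option backward.isDefEq.respectTransparency.types false
set_option synthInstance.maxHeartbeats 400000
set_option maxHeartbeats 4000000
set_option linter.style.haveILetI false
set_option linter.unusedSectionVars false
set_option linter.unusedVariables false
universe u

open TensorProduct

namespace Groth.Agent.Helper2.RankOne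

variable {A B : Type u} [CommRing A] [CommRing B] [Algebra A B]

/-- the epimorphy condition of the fibre of `A → B` along `ψ : A → k` -/
def EpiAlong (k : Type u) [CommRing k] (ψ : A →+* k) : Prop :=
  ∀ (D : Type u) [CommRing D] (j₁ j₂ : B →+* D) (ι : k →+* D),
    j₁.comp (algebraMap A B) = ι.comp ψ → j₂.comp (algebraMap A B) = ι.comp ψ → j₁ = j₂

theorem ideal_le_smul_top [Module.Flat A B] (k : Type u) [Field k] (ψ : A →+* k)
    (hepi : EpiAlong (B := B) k ψ) :
    (KaehlerDifferential.ideal A B).restrictScalars A ≤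
      (RingHom.ker ψ) • (⊤ : Submodule A (B ⊗[A] B)) := by
  letI : Algebra A k := ψ.toAlgebra
  let θ : (B ⊗[A] B) →ₐ[A] k ⊗[A] (B ⊗[A] B) := Algebra.TensorProduct.includeRight
  have hj : ∀ b : B, θ (b ⊗ₜ[A] (1 : B)) = θ ((1 : B) ⊗ₜ[A] b) := by
    have key := hepi (k ⊗[A] (B ⊗[A] B))
      (θ.toRingHom.comp (Algebra.TensorProduct.includeLeft : B →ₐ[A] B ⊗[A] B).toRingHom)
      (θ.toRingHom.comp (Algebra.TensorProduct.includeRight : B →ₐ[A] B ⊗[A] B).toRingHom)
      (algebraMap k (k ⊗[A] (B ⊗[A] B))) ?_ ?_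
    · intro b
      exact congrArg (fun f => f b) key
    · ext a
      simp only [RingHom.coe_comp, Function.comp_apply, AlgHom.toRingHom_eq_coe, RingHom.coe_coe,
        AlgHom.commutes]
      rw [IsScalarTower.algebraMap_apply A k (k ⊗[A] (B ⊗[A] B))]
      rfl
    · ext a
      simp only [RingHom.coe_comp, Function.comp_apply, AlgHom.toRingHom_eq_coe, RingHom.coe_coe,
        AlgHom.commutes]
      rw [IsScalarTower.algebraMap_apply A k (k ⊗[A] (B ⊗[A] B))]
      rfl
  have hker : KaehlerDifferential.ideal A B ≤ RingHom.ker θ.toRingHom := by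
    rw [← KaehlerDifferential.span_range_eq_ideal, Ideal.span_le]
    rintro _ ⟨b, rfl⟩
    rw [SetLike.mem_coe, RingHom.mem_ker, map_sub]
    exact sub_eq_zero.mpr (hj b).symm
  intro c hc
  have hc' : c ∈ KaehlerDifferential.ideal A B := hc
  have h0 : (1 : k) ⊗ₜ[A] c = 0 := hker hc'
  let f : (A ⧸ RingHom.ker ψ) →ₗ[A] k :=
    Submodule.liftQ (RingHom.ker ψ) (Algebra.linearMap A k) (by
      intro a ha
      rw [LinearMap.mem_ker, Algebra.linearMap_apply, RingHom.algebraMap_toAlgebra]
      exact ha)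
  have hf : Function.Injective f := by
    rw [← LinearMap.ker_eq_bot]
    apply Submodule.ker_liftQ_eq_bot
    intro a ha
    rw [LinearMap.mem_ker, Algebra.linearMap_apply, RingHom.algebraMap_toAlgebra] at ha
    exact ha
  have hinj := Module.Flat.rTensor_preserves_injective_linearMap (M := B ⊗[A] B) f hf
  have h1 : (Ideal.Quotient.mk (RingHom.ker ψ) 1) ⊗ₜ[A] c =
      (0 : (A ⧸ RingHom.ker ψ) ⊗[A] (B ⊗[A] B)) := by
    apply hinj
    rw [map_zero, LinearMap.rTensor_tmul]
    have : f (Ideal.Quotient.mk (RingHom.ker ψ) 1) = 1 := by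
      change f (Submodule.Quotient.mk 1) = 1
      rw [Submodule.liftQ_apply, Algebra.linearMap_apply, map_one]
    rw [this, h0]
  have h2 := congrArg (TensorProduct.quotTensorEquivQuotSMul (B ⊗[A] B) (RingHom.ker ψ)) h1
  rw [TensorProduct.quotTensorEquivQuotSMul_mk_tmul, map_zero, one_smul] at h2
  exact (Submodule.Quotient.mk_eq_zero _).mp h2

/-- the retraction of `B ⊗ B` onto the kernel of the multiplication -/
noncomputable def retr : (B ⊗[A] B) →ₗ[A] (B ⊗[A] B) :=
  LinearMap.id - ((Algebra.TensorProduct.includeLeft : B →ₐ[A] B ⊗[A] B).toLinearMap.comp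
    (Algebra.TensorProduct.lmul' A : B ⊗[A] B →ₐ[A] B).toLinearMap)

theorem retr_mem (c : B ⊗[A] B) : retr (A := A) (B := B) c ∈ KaehlerDifferential.ideal A B := by
  rw [RingHom.mem_ker]
  simp [retr]

theorem retr_eq_self (c : B ⊗[A] B) (hc : c ∈ KaehlerDifferential.ideal A B) :
    retr (A := A) (B := B) c = c := by
  have : (Algebra.TensorProduct.lmul' A : B ⊗[A] B →ₐ[A] B) c = 0 := hc
  simp [retr, this]

theorem ideal_le_smul_ideal [Module.Flat A B] (k : Type u) [Field k] (ψ : A →+* k)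
    (hepi : EpiAlong (B := B) k ψ) :
    (KaehlerDifferential.ideal A B : Submodule (B ⊗[A] B) (B ⊗[A] B)) ≤
      ((RingHom.ker ψ).map (algebraMap A (B ⊗[A] B))) • (KaehlerDifferential.ideal A B) := by
  intro x hx
  have h1 := ideal_le_smul_top k ψ hepi hx
  have h2 : retr (A := A) (B := B) x ∈
      Submodule.map (retr (A := A) (B := B)) ((RingHom.ker ψ) • (⊤ : Submodule A (B ⊗[A] B))) :=
    Submodule.mem_map_of_mem h1
  rw [retr_eq_self x hx, Submodule.map_smul''] at h2
  refine Submodule.smul_induction_on h2 ?_ ?_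
  · rintro a ha y ⟨z, -, rfl⟩
    rw [Algebra.smul_def]
    exact Submodule.smul_mem_smul (Ideal.mem_map_of_mem _ ha) (retr_mem z)
  · intro y z hy hz
    exact add_mem hy hz

theorem formallyUnramified_of_epiAlong [Module.Flat A B] [Algebra.FiniteType A B]
    (H : ∀ p₀ : PrimeSpectrum A, ∃ (k : Type u) (_ : Field k) (ψ : A →+* k),
        RingHom.ker ψ ≤ p₀.asIdeal ∧ EpiAlong (B := B) k ψ) :
    Algebra.FormallyUnramified A B := by
  have hbot : KaehlerDifferential.ideal A B = ⊥ := by
    by_contra hne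
    obtain ⟨x, hx, hx0⟩ := Submodule.exists_mem_ne_zero_of_ne_bot hne
    let J : Ideal (B ⊗[A] B) := Submodule.annihilator
      (KaehlerDifferential.ideal A B : Submodule (B ⊗[A] B) (B ⊗[A] B))
    have hJ : J ≠ ⊤ := by
      intro h
      have h1 : (1 : B ⊗[A] B) ∈ J := h ▸ Submodule.mem_top
      have := Submodule.mem_annihilator.mp h1 x hx
      rw [one_smul] at this
      exact hx0 this
    obtain ⟨𝔪, h𝔪, hJ𝔪⟩ := Ideal.exists_le_maximal J hJ
    haveI := h𝔪.isPrime
    obtain ⟨k, _, ψ, hker, hepi⟩ := H ⟨𝔪.comap (algebraMap A (B ⊗[A] B)), inferInstance⟩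
    have hfg : (KaehlerDifferential.ideal A B : Submodule (B ⊗[A] B) (B ⊗[A] B)).FG :=
      KaehlerDifferential.ideal_fg A B
    obtain ⟨r, hr1, hr2⟩ := Submodule.exists_sub_one_mem_and_smul_eq_zero_of_fg_of_le_smul
      ((RingHom.ker ψ).map (algebraMap A (B ⊗[A] B))) _ hfg (ideal_le_smul_ideal k ψ hepi)
    have hrJ : r ∈ J := Submodule.mem_annihilator.mpr hr2
    have hle : (RingHom.ker ψ).map (algebraMap A (B ⊗[A] B)) ≤ 𝔪 :=
      Ideal.map_le_iff_le_comap.mpr hker
    have h1 : r - 1 ∈ 𝔪 := hle hr1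
    have h2 : r ∈ 𝔪 := hJ𝔪 hrJ
    have h3 : (1 : B ⊗[A] B) ∈ 𝔪 := by
      have := 𝔪.sub_mem h2 h1
      simpa using this
    exact h𝔪.ne_top ((Ideal.eq_top_iff_one _).mpr h3)
  constructor
  constructor
  intro a b
  obtain ⟨⟨a', ha'⟩, rfl⟩ := Ideal.toCotangent_surjective _ a
  obtain ⟨⟨b', hb'⟩, rfl⟩ := Ideal.toCotangent_surjective _ b
  have ha0 : a' = 0 := by rw [hbot] at ha'; exact ha'
  have hb0 : b' = 0 := by rw [hbot] at hb'; exact hb'
  subst ha0 hb0
  rfl

end Groth.Agent.Helper2.RankOne
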