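import Mathlib
import Groth.Agent.Lib.Helper2.RankOne.Alg

/-!
# A flat, separated, locally finitely presented morphism with fibres of rank at most one over
maximal points is an open immersion (helper2)
-/

set_option autoImplicit false
set_option backward.isDefEq.respectTransparency.types false
set_option synthInstance.maxHeartbeats 400000
set_option maxHeartbeats 4000000
set_option linter.style.haveILetI false
set_option linter.unusedSectionVars false
set_option linter.unusedVariables false
universe u

open CategoryTheory CategoryTheory.Limits AlgebraicGeometry TopologicalSpace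

namespace Groth.Agent.Helper2.RankOne

/-- every point of a scheme has a maximal generization -/
theorem exists_maxPt_specializes (S : Scheme.{u}) (x : S) :
    ∃ s : S, s ⤳ x ∧ ∀ t : S, t ⤳ s → t = s := by
  have hZ := irreducibleComponent_mem_irreducibleComponents x
  have hcl : IsClosed (irreducibleComponent x) := isClosed_irreducibleComponent
  obtain ⟨s, hs⟩ := QuasiSober.sober hZ.1 hcl
  refine ⟨s, ?_, ?_⟩
  · rw [specializes_iff_mem_closure, hs.def]
    exact mem_irreducibleComponent
  · intro t ht
    have h1 : irreducibleComponent x ⊆ closure {t} := by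
      rw [← hs.def]
      exact closure_minimal (Set.singleton_subset_iff.2 (specializes_iff_mem_closure.1 ht))
        isClosed_closure
    have h2 : closure {t} ⊆ irreducibleComponent x :=
      hZ.2 isIrreducible_singleton.closure h1
    have h3 : closure {t} = closure {s} := by
      rw [hs.def]
      exact h2.antisymm h1
    exact (inseparable_iff_closure_eq.mpr h3).eq

theorem mono_fibre {T S : Scheme.{u}} (g : T ⟶ S) (s : S)
    (h : IsEmpty ↑(pullback g (S.fromSpecResidueField s)) ∨
      IsIso (pullback.snd g (S.fromSpecResidueField s))) :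
    Mono (pullback.snd g (S.fromSpecResidueField s)) := by
  rcases h with h | h
  · constructor
    intro Z a b _
    haveI : IsEmpty Z := Function.isEmpty a
    exact (isInitialOfIsEmpty (X := Z)).hom_ext a b
  · infer_instance

theorem SpecMap_evaluation_fromSpec {S : Scheme.{u}} (U : S.Opens) (hU : IsAffineOpen U) (s : S)
    (hs : s ∈ U) :
    Spec.map (S.evaluation U s hs) ≫ hU.fromSpec = S.fromSpecResidueField s := by
  rw [Scheme.fromSpecResidueField, ← hU.fromSpecStalk_eq_fromSpecStalk hs,
    IsAffineOpen.fromSpecStalk, Scheme.evaluation, Spec.map_comp, Category.assoc]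

theorem epiAlong_of_mono {T S : Scheme.{u}} (g : T ⟶ S) (U : S.Opens) (hU : IsAffineOpen U)
    (V : T.Opens) (hV : IsAffineOpen V) (e : V ≤ g ⁻¹ᵁ U) (s : S) (hs : s ∈ U)
    [Mono (pullback.snd g (S.fromSpecResidueField s))] :
    letI := (g.appLE U V e).hom.toAlgebra
    EpiAlong (A := Γ(S, U)) (B := Γ(T, V)) (S.residueField s) (S.evaluation U s hs).hom := by
  letI := (g.appLE U V e).hom.toAlgebra
  intro D _ j₁ j₂ ι h1 h2
  let a₁ : Spec (CommRingCat.of D) ⟶ T := Spec.map (CommRingCat.ofHom j₁) ≫ hV.fromSpec
  let a₂ : Spec (CommRingCat.of D) ⟶ T := Spec.map (CommRingCat.ofHom j₂) ≫ hV.fromSpec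
  let c : Spec (CommRingCat.of D) ⟶ Spec (S.residueField s) := Spec.map (CommRingCat.ofHom ι)
  have hc := SpecMap_evaluation_fromSpec U hU s hs
  have hcomp : ∀ j : Γ(T, V) →+* D, j.comp (algebraMap Γ(S, U) Γ(T, V)) =
      ι.comp (S.evaluation U s hs).hom →
      (Spec.map (CommRingCat.ofHom j) ≫ hV.fromSpec) ≫ g = c ≫ S.fromSpecResidueField s := by
    intro j hj
    rw [← hc, Category.assoc, ← IsAffineOpen.SpecMap_appLE_fromSpec g hU hV e,
      ← Spec.map_comp_assoc, ← Spec.map_comp_assoc]
    congr 2
    ext x
    exact congrArg (fun f => f x) hj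
  have ha₁ : a₁ ≫ g = c ≫ S.fromSpecResidueField s := hcomp j₁ h1
  have ha₂ : a₂ ≫ g = c ≫ S.fromSpecResidueField s := hcomp j₂ h2
  let b₁ := pullback.lift a₁ c ha₁
  let b₂ := pullback.lift a₂ c ha₂
  have hb : b₁ = b₂ := by
    rw [← cancel_mono (pullback.snd g (S.fromSpecResidueField s))]
    simp only [b₁, b₂, pullback.lift_snd]
  have ha : a₁ = a₂ := by
    have h3 := congrArg (fun b => b ≫ pullback.fst g (S.fromSpecResidueField s)) hb
    simpa only [b₁, b₂, pullback.lift_fst] using h3
  have h4 : Spec.map (CommRingCat.ofHom j₁) = Spec.map (CommRingCat.ofHom j₂) :=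
    (cancel_mono hV.fromSpec).mp ha
  have h5 := Spec.map_injective h4
  exact congrArg CommRingCat.Hom.hom h5

theorem formallyUnramified_of_mono_fibres {T S : Scheme.{u}} (g : T ⟶ S) [Flat g]
    [LocallyOfFiniteType g]
    (h : ∀ s : S, (∀ t : S, t ⤳ s → t = s) →
      Mono (pullback.snd g (S.fromSpecResidueField s))) :
    FormallyUnramified g := by
  rw [HasRingHomProperty.iff_appLE (P := @FormallyUnramified)]
  intro U V e
  have hflat : (g.appLE U.1 V.1 e).hom.Flat := HasRingHomProperty.appLE (P := @Flat) g inferInstance U V e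
  have hft : (g.appLE U.1 V.1 e).hom.FiniteType := g.finiteType_appLE U.2 V.2 e
  letI := (g.appLE U.1 V.1 e).hom.toAlgebra
  haveI : Module.Flat Γ(S, U.1) Γ(T, V.1) := hflat
  haveI : Algebra.FiniteType Γ(S, U.1) Γ(T, V.1) := hft
  change Algebra.FormallyUnramified Γ(S, U.1) Γ(T, V.1)
  apply formallyUnramified_of_epiAlong
  intro p₀
  -- the point of `S`
  set x₀ : S := U.2.fromSpec p₀ with hx₀
  have hx₀U : x₀ ∈ U.1 := by
    have : x₀ ∈ Set.range U.2.fromSpec := ⟨p₀, rfl⟩
    rw [U.2.range_fromSpec] at this
    exact this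
  obtain ⟨s, hsx, hsmax⟩ := exists_maxPt_specializes S x₀
  have hsU : s ∈ U.1 := hsx.mem_open U.1.2 hx₀U
  haveI := h s hsmax
  refine ⟨S.residueField s, inferInstance, (S.evaluation U.1 s hsU).hom, ?_,
    epiAlong_of_mono g U.1 U.2 V.1 V.2 e s hsU⟩
  intro a ha
  rw [RingHom.mem_ker] at ha
  have h1 : s ∉ S.basicOpen a := (Scheme.evaluation_eq_zero_iff_notMem_basicOpen S s hsU a).mp ha
  have h2 : x₀ ∉ S.basicOpen a := fun hx => h1 (hsx.mem_open (S.basicOpen a).2 hx)
  by_contra hap
  apply h2
  have h3 : p₀ ∈ U.2.fromSpec ⁻¹ᵁ S.basicOpen a := by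
    rw [U.2.fromSpec_preimage_basicOpen]
    exact hap
  exact h3

theorem diagonal_surjective {T S : Scheme.{u}} (g : T ⟶ S) [Flat g] [IsSeparated g]
    (h : ∀ s : S, (∀ t : S, t ⤳ s → t = s) →
      Mono (pullback.snd g (S.fromSpecResidueField s))) :
    Function.Surjective (pullback.diagonal g) := by
  intro w
  let π : pullback g g ⟶ S := pullback.fst g g ≫ g
  haveI : Flat π := inferInstance
  obtain ⟨s, hs, hsmax⟩ := exists_maxPt_specializes S (π w)
  obtain ⟨w', hw'w, hw's⟩ := Flat.generalizingMap π hs
  have hmono := h (π w') (by rw [hw's]; exact hsmax)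
  -- it suffices to show `w'` is in the range
  suffices hsuff : w' ∈ Set.range (pullback.diagonal g) by
    have hcl : IsClosed (Set.range (pullback.diagonal g)) :=
      (pullback.diagonal g).isClosedEmbedding.isClosed_range
    exact hcl.closure_subset_iff.mpr (Set.singleton_subset_iff.mpr hsuff)
      (specializes_iff_mem_closure.mp hw'w)
  let P := pullback g g
  let x : Spec (P.residueField w') ⟶ P := P.fromSpecResidueField w'
  let a₁ := x ≫ pullback.fst g g
  let a₂ := x ≫ pullback.snd g g
  let c : Spec (P.residueField w') ⟶ Spec (S.residueField (π w')) :=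
    Spec.map (π.residueFieldMap w')
  have hnat : c ≫ S.fromSpecResidueField (π w') = x ≫ π :=
    Scheme.Hom.SpecMap_residueFieldMap_fromSpecResidueField π w'
  have ha₁ : a₁ ≫ g = c ≫ S.fromSpecResidueField (π w') := by
    rw [hnat]; simp only [a₁, π, Category.assoc]
  have ha₂ : a₂ ≫ g = c ≫ S.fromSpecResidueField (π w') := by
    rw [hnat]; simp only [a₂, π, Category.assoc, pullback.condition]
  let b₁ := pullback.lift a₁ c ha₁
  let b₂ := pullback.lift a₂ c ha₂
  have hb : b₁ = b₂ := by
    rw [← cancel_mono (pullback.snd g (S.fromSpecResidueField (π w')))]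
    simp only [b₁, b₂, pullback.lift_snd]
  have ha : a₁ = a₂ := by
    have h3 := congrArg (fun b => b ≫ pullback.fst g (S.fromSpecResidueField (π w'))) hb
    simpa only [b₁, b₂, pullback.lift_fst] using h3
  have hx : x = a₁ ≫ pullback.diagonal g := by
    apply pullback.hom_ext
    · simp only [a₁, Category.assoc, pullback.diagonal_fst, Category.comp_id]
    · simp only [Category.assoc, pullback.diagonal_snd, Category.comp_id]
      exact ha.symm ▸ rfl
  obtain ⟨z⟩ : Nonempty (Spec (P.residueField w')) := inferInstance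
  refine ⟨a₁ z, ?_⟩
  have h5 : x z = w' := Scheme.fromSpecResidueField_apply w' z
  have h6 : (a₁ ≫ pullback.diagonal g) z = w' := by rw [← hx]; exact h5
  exact h6

theorem main {T S : Scheme.{u}} (g : T ⟶ S)
    [LocallyOfFinitePresentation g] [IsSeparated g] [Flat g]
    (h : ∀ s : S, (∀ t : S, t ⤳ s → t = s) →
      IsEmpty ↑(pullback g (S.fromSpecResidueField s)) ∨
        IsIso (pullback.snd g (S.fromSpecResidueField s))) :
    IsOpenImmersion g := by
  have hmono : ∀ s : S, (∀ t : S, t ⤳ s → t = s) →
      Mono (pullback.snd g (S.fromSpecResidueField s)) := fun s hs => mono_fibre g s (h s hs)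
  haveI : FormallyUnramified g := formallyUnramified_of_mono_fibres g hmono
  haveI : IsOpenImmersion (pullback.diagonal g) := inferInstance
  haveI : Surjective (pullback.diagonal g) := ⟨diagonal_surjective g hmono⟩
  haveI : IsIso (pullback.diagonal g) :=
    (isIso_iff_isOpenImmersion_and_surjective _).mpr ⟨inferInstance, inferInstance⟩
  haveI : Mono g := (pullback.isIso_diagonal_iff g).mp inferInstance
  exact IsOpenImmersion.of_flat_of_mono g

end Groth.Agent.Helper2.RankOne
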